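import Groth.Prelude.Def_EtAcyc
import Groth.Agent.Sga4A.EtSubm
import Mathlib.CategoryTheory.Sites.Point.Skyscraper
import Mathlib.AlgebraicGeometry.Morphisms.QuasiCompact
import Mathlib.RingTheory.Ideal.MinimalPrime.Localization

/-!
# The unit of the adjunction for étale sheaves of sets: monomorphisms and surjectivity
-/

set_option autoImplicit false
universe u

open CategoryTheory CategoryTheory.Limits AlgebraicGeometry Opposite

namespace Groth.Agent.Etbc.H191.MinusOne

open EtDesc Groth.Agent.Sga4A.EtStalk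

theorem mono_unit_of_surjective {X Y : Scheme.{u}} (f : X ⟶ Y) [Surjective f] (F : EtDesc.Sh Y) :
    Mono ((EtDesc.adjSh f).unit.app F) := by
  apply (sheafToPresheaf _ _).mono_of_mono_map
  have : ∀ U, Mono (((sheafToPresheaf _ _).map ((EtDesc.adjSh f).unit.app F)).app U) := by
    intro U
    refine (mono_iff_injective _).2 ?_
    have h1 : Surjective (bcFst f U.unop) := by
      have : Surjective (pullback.fst U.unop.hom f) := inferInstance
      exact this
    exact pullSect_injective f F (U := U.unop) h1.surj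
  exact NatTrans.mono_of_mono_app _

theorem pullSect_injective_of_mono {X Y : Scheme.{u}} (f : X ⟶ Y) (F : EtDesc.Sh Y)
    [Mono ((EtDesc.adjSh f).unit.app F)] (U : Y.Etale) :
    Function.Injective (pullSect f F (U := U)) := by
  have h1 : Mono ((sheafToPresheaf _ _).map ((EtDesc.adjSh f).unit.app F)) := inferInstance
  have h2 := (NatTrans.mono_iff_mono_app _).1 h1 (op U)
  exact (mono_iff_injective _).1 h2

/-- Affine target: a point outside the image of an affine scheme has a neighbourhood on which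
its closure misses the image. -/
theorem exists_basicOpen {R A : CommRingCat.{u}} (f : Spec R ⟶ Spec A)
    (y : Spec A) (hy : y ∉ Set.range f) :
    ∃ D : (Spec A).Opens, y ∈ D ∧ ∀ x : Spec R, f x ∈ D → ¬ (y ⤳ f x) := by
  obtain ⟨φ, rfl⟩ := Spec.homEquiv.symm.surjective f
  change y ∉ Set.range (Spec.map φ) at hy
  change ∃ D : (Spec A).Opens, y ∈ D ∧ ∀ x : Spec R, Spec.map φ x ∈ D → ¬ (y ⤳ Spec.map φ x)
  have hy' : ¬ (y.asIdeal.map φ.hom).comap φ.hom ≤ y.asIdeal := by
    intro hle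
    have heq : (y.asIdeal.map φ.hom).comap φ.hom = y.asIdeal :=
      le_antisymm hle Ideal.le_comap_map
    have hmin : y.asIdeal ∈ ((y.asIdeal.map φ.hom).comap φ.hom).minimalPrimes := by
      rw [heq]
      have := y.isPrime
      rw [Ideal.minimalPrimes_eq_subsingleton_self]
      rfl
    obtain ⟨q, hq, -, hqy⟩ := Ideal.exists_comap_eq_of_mem_minimalPrimes φ.hom y.asIdeal hmin
    exact hy ⟨⟨q, hq⟩, PrimeSpectrum.ext hqy⟩
  rw [SetLike.not_le_iff_exists] at hy'
  obtain ⟨a, ha, hay⟩ := hy'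
  refine ⟨PrimeSpectrum.basicOpen a, hay, ?_⟩
  intro q hx hspec
  have h1 : y.asIdeal ≤ (Spec.map φ q).asIdeal := (PrimeSpectrum.le_iff_specializes _ _).2 hspec
  have h2 : y.asIdeal.map φ.hom ≤ q.asIdeal := Ideal.map_le_iff_le_comap.2 h1
  exact hx (h2 ha)

theorem exists_opens {X Y : Scheme.{u}} (f : X ⟶ Y) [QuasiCompact f]
    (y : Y) (hy : y ∉ Set.range f) :
    ∃ D : Y.Opens, y ∈ D ∧ ∀ x : X, f x ∈ D → ¬ (y ⤳ f x) := by
  obtain ⟨U, hU, hyU, -⟩ := exists_isAffineOpen_mem_and_subset (X := Y) (x := y) (U := ⊤) trivial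
  obtain ⟨R, p, hp⟩ := (isCompact_iff_exists (U := f ⁻¹ᵁ U)).1
    (QuasiCompact.isCompact_preimage (f := f) _ U.2 hU.isCompact)
  have hrange : Set.range hU.fromSpec = U := hU.range_fromSpec
  have hle : Set.range (p ≫ f) ⊆ Set.range hU.fromSpec := by
    rintro _ ⟨z, rfl⟩
    rw [hrange]
    have : p z ∈ f ⁻¹ᵁ U := by
      have := Set.mem_range_self (f := p) z
      rw [hp] at this
      exact this
    exact this
  let q : Spec R ⟶ Spec Γ(Y, U) := IsOpenImmersion.lift hU.fromSpec (p ≫ f) hle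
  have hq : q ≫ hU.fromSpec = p ≫ f := IsOpenImmersion.lift_fac _ _ _
  have hq' : ∀ z, hU.fromSpec (q z) = f (p z) := by
    intro z
    have := congrArg (fun m : Spec R ⟶ Y => m z) hq
    exact this
  obtain ⟨y', hy'⟩ : y ∈ Set.range hU.fromSpec := by rw [hrange]; exact hyU
  obtain ⟨D, hD, hD'⟩ := exists_basicOpen q y' (by
    rintro ⟨z, hz⟩
    apply hy
    refine ⟨p z, ?_⟩
    rw [← hq', hz, hy'])
  refine ⟨hU.fromSpec ''ᵁ D, ⟨y', hD, hy'⟩, ?_⟩
  rintro x ⟨w, hw, hwx⟩ hspec
  change hU.fromSpec w = f x at hwx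
  have hxU : x ∈ Set.range p := by
    rw [hp]
    have : f x ∈ (U : Set Y) := by
      rw [← hrange, ← hwx]
      exact ⟨w, rfl⟩
    exact this
  obtain ⟨z, rfl⟩ := hxU
  have e1 : q z = w := by
    apply hU.fromSpec.isOpenEmbedding.injective
    exact (hq' z).trans hwx.symm
  refine hD' z (by rw [e1]; exact hw) ?_
  rw [← hU.fromSpec.isOpenEmbedding.toIsInducing.specializes_iff]
  have h2 : hU.fromSpec y' ⤳ hU.fromSpec (q z) := by
    rw [hq', hy']
    exact hspec
  exact h2

section Sky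

variable {Y : Scheme.{u}} {Ω₀ : Type u} [Field Ω₀] [IsSepClosed Ω₀] (η : Spec (.of Ω₀) ⟶ Y)

/-- The skyscraper sheaf with value a two element set. -/
noncomputable def sky : Sh Y :=
  (Scheme.pointSmallEtale η).skyscraperSheaf (ULift.{u + 1} Bool : Type (u + 1))

theorem subsingleton_sect (U : Y.Etale) (hU : ∀ l : Spec (.of Ω₀) ⟶ U.left, l ≫ U.hom ≠ η) :
    Subsingleton (sect (sky η) U) := by
  have hempty : IsEmpty ((Scheme.pointSmallEtale η).fiber.obj U) :=
    ⟨fun x => hU x.left (Over.w x)⟩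
  have e := (Types.productIso.{u, u + 1} (fun (_ : (Scheme.pointSmallEtale η).fiber.obj U) =>
    (ULift.{u + 1} Bool : Type (u + 1)))).toEquiv
  exact e.injective.subsingleton

theorem exists_ne (U : Y.Etale) (l : Spec (.of Ω₀) ⟶ U.left) (hl : l ≫ U.hom = η) :
    ∃ s t : sect (sky η) U, s ≠ t := by
  have e := (Types.productIso.{u, u + 1} (fun (_ : (Scheme.pointSmallEtale η).fiber.obj U) =>
    (ULift.{u + 1} Bool : Type (u + 1)))).toEquiv
  refine ⟨e.symm (fun _ => ⟨true⟩), e.symm (fun _ => ⟨false⟩), fun h => ?_⟩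
  have h1 := congrFun (e.symm.injective h) (Over.homMk l hl)
  simp at h1

/-- The stalks of the skyscraper sheaf at points outside the closure of its support. -/
theorem subsingleton_stk {Ω : Type u} [Field Ω] [IsSepClosed Ω] (ζ : Spec (.of Ω) ⟶ Y)
    (h : ¬ (η default ⤳ ζ default)) : Subsingleton (Stk (sky η) ζ) := by
  obtain ⟨W, hW, hζ, hη⟩ := (not_specializes_iff_exists_open.1 h)
  refine ⟨fun σ τ => ?_⟩
  obtain ⟨U, l, hl, s, t, rfl, rfl⟩ := exists_germ₂ (sky η) σ τ
  let N : U.left.Opens := U.hom ⁻¹ᵁ ⟨W, hW⟩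
  have hlN : l default ∈ N := by
    change (l ≫ U.hom) default ∈ W
    rw [hl]
    exact hζ
  obtain ⟨m, hm⟩ := exists_lift_openEt U N l hlN
  refine (germ_eq_iff (sky η) l hl s t).2 ⟨openEt U N, openEtι U N, m, hm, ?_⟩
  have := subsingleton_sect η (openEt U N) (by
    intro k hk
    apply hη
    have h1 : (k ≫ N.ι ≫ U.hom) default ∈ W := (k default).2
    have h2 : k ≫ N.ι ≫ U.hom = η := hk
    rw [h2] at h1
    exact h1)
  exact Subsingleton.elim _ _

end Sky

theorem surjective_of_minusOneAcyclic {X Y : Scheme.{u}} (g : X ⟶ Y) [QuasiCompact g]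
    (hg : EtAcyc.IsMinusOneAcyclic g) : Function.Surjective g.base := by
  intro y
  by_contra hy
  obtain ⟨D, hyD, hD⟩ := exists_opens g y (by
    rintro ⟨x, hx⟩
    exact hy ⟨x, hx⟩)
  let V : Y.Etale := Scheme.Etale.mk D.ι
  obtain ⟨Ω₀, _, _, η, hη⟩ := exists_geomPoint V.left (⟨y, hyD⟩ : D)
  have hmono : Mono ((EtDesc.adjSh (EtAcyc.prj g V)).unit.app (sky η)) := hg V (sky η)
  have hinj := pullSect_injective_of_mono (EtAcyc.prj g V) (sky η) (EtCoh.top V.left)
  obtain ⟨s, t, hst⟩ := exists_ne η (EtCoh.top V.left) (topPt η) (topPt_hom η)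
  apply hst
  apply hinj
  refine sect_ext_germ' _ _ _ _ (fun Ω _ _ l => ?_)
  set ξ := l ≫ ((EtCoh.bc (EtAcyc.prj g V)).obj (EtCoh.top V.left)).hom with hξ
  have hss : Subsingleton (Stk (sky η) (ξ ≫ EtAcyc.prj g V)) := by
    apply subsingleton_stk
    intro hspec
    let x : X := (pullback.snd V.hom g) (ξ default)
    have hx : g x = V.hom ((ξ ≫ EtAcyc.prj g V) default) := by
      have : (ξ ≫ pullback.snd V.hom g ≫ g) default = (ξ ≫ pullback.fst V.hom g ≫ V.hom) default := by
        rw [pullback.condition]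
      exact this
    refine hD x ?_ ?_
    · rw [hx]
      exact ((ξ ≫ EtAcyc.prj g V) default : D).2
    · rw [hx]
      have h1 : V.hom (η default) = y := by rw [hη]; rfl
      rw [← h1]
      exact hspec.map V.hom.continuous
  have : Subsingleton (Stk ((pullSh (EtAcyc.prj g V)).obj (sky η)) ξ) :=
    (pullStk (EtAcyc.prj g V) (sky η) ξ).symm.injective.subsingleton
  exact Subsingleton.elim _ _

end Groth.Agent.Etbc.H191.MinusOne
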