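import Groth.Agent.Etbc.H226.NFDefs
import Mathlib.NumberTheory.RamificationInertia.Valuation
import Mathlib.NumberTheory.NumberField.Completion.FinitePlace

/-!
# Functoriality of the completions of number fields at finite places
-/

set_option autoImplicit false
open NumberField IsDedekindDomain Polynomial

namespace Groth.Agent.Etbc.H191.NfCompl

/-- completions at finite places are functorial -/
theorem exists_ringHom (K L : Type*) [Field K] [NumberField K] [Field L] [NumberField L]
    [Algebra K L]
    (v : HeightOneSpectrum (𝓞 K)) (w : HeightOneSpectrum (𝓞 L)) (h : w.asIdeal.LiesOver v.asIdeal) :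
    ∃ f : v.adicCompletion K →+* w.adicCompletion L,
      f.comp (algebraMap K (v.adicCompletion K)) =
        (algebraMap L (w.adicCompletion L)).comp (algebraMap K L) := by
  have hu := HeightOneSpectrum.uniformContinuous_algebraMap_liesOver (K := K) L v w
  let g := UniformSpace.Completion.mapRingHom
    (algebraMap (WithVal (v.valuation K)) (WithVal (w.valuation L))) hu.continuous
  refine ⟨((HeightOneSpectrum.adicCompletion.equiv L w).symm : _ →+* _).comp
    (g.comp (HeightOneSpectrum.adicCompletion.equiv K v : _ →+* _)), ?_⟩
  ext x
  have h1 : (algebraMap K (v.adicCompletion K) x).toCompletion =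
      ((WithVal.equiv (v.valuation K)).symm x : WithVal (v.valuation K)) := rfl
  have h2 : (algebraMap L (w.adicCompletion L) (algebraMap K L x)).toCompletion =
      ((WithVal.equiv (w.valuation L)).symm (algebraMap K L x) : WithVal (w.valuation L)) := rfl
  change g ((algebraMap K (v.adicCompletion K) x).toCompletion) =
    (algebraMap L (w.adicCompletion L) (algebraMap K L x)).toCompletion
  rw [h1, h2]
  exact UniformSpace.Completion.mapRingHom_coe _ _

end Groth.Agent.Etbc.H191.NfCompl
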