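import Groth.Agent.Etbc.H226.NFDefs
import Mathlib.RingTheory.RootsOfUnity.PrimitiveRoots
import Mathlib.RingTheory.Filtration
import Mathlib.RingTheory.Ideal.Quotient.Index
import Mathlib.RingTheory.Valuation.Integral
import Mathlib.RingTheory.LocalRing.ResidueField.Basic

/-!
# A local field contains only finitely many roots of unity of `ℓ`-power order
-/

set_option autoImplicit false
universe u
open NumberField IsDedekindDomain Polynomial

namespace Groth.Agent.Etbc.H191.NfRoots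

open Groth.Agent.Etbc.H226.NFDefs

theorem one_sub_dvd_prime {R : Type*} [CommRing R] [IsDomain R] {ℓ : ℕ} (hℓ : 1 < ℓ) {ω : R}
    (hω : IsPrimitiveRoot ω ℓ) : (1 - ω) ∣ (ℓ : R) := by
  have h1 : ∑ i ∈ Finset.range ℓ, ω ^ i = 0 := hω.geom_sum_eq_zero hℓ
  have h2 : (ℓ : R) = ∑ i ∈ Finset.range ℓ, (1 - ω ^ i) := by
    rw [Finset.sum_sub_distrib, h1]
    simp
  rw [h2]
  exact Finset.dvd_sum (fun i _ => one_sub_dvd_one_sub_pow ω i)

theorem no_root_of_dvr (R : Type*) [CommRing R] [IsDomain R] [IsDiscreteValuationRing R]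
    [Finite (IsLocalRing.ResidueField R)] (ℓ : ℕ) [Fact ℓ.Prime] (hℓ : (ℓ : R) ≠ 0) :
    ∃ n : ℕ, ∀ z : R, ¬ IsPrimitiveRoot z (ℓ ^ n) := by
  have hp : ℓ.Prime := Fact.out
  obtain ⟨M, hM⟩ : ∃ M : ℕ, (ℓ : R) ∉ IsLocalRing.maximalIdeal R ^ M := by
    by_contra hcon
    push Not at hcon
    have h1 : (ℓ : R) ∈ (⨅ i : ℕ, IsLocalRing.maximalIdeal R ^ i) := by
      rw [Ideal.mem_iInf]; exact hcon
    rw [Ideal.iInf_pow_eq_bot_of_isLocalRing _ (Ideal.IsPrime.ne_top inferInstance)] at h1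
    exact hℓ h1
  have hfin : Finite (R ⧸ IsLocalRing.maximalIdeal R) :=
    inferInstanceAs (Finite (IsLocalRing.ResidueField R))
  have hfin2 : Finite (R ⧸ IsLocalRing.maximalIdeal R ^ M) :=
    Ideal.finite_quotient_pow (IsNoetherian.noetherian _) M
  refine ⟨Nat.card (R ⧸ IsLocalRing.maximalIdeal R ^ M), fun z hz => ?_⟩
  set q := Nat.card (R ⧸ IsLocalRing.maximalIdeal R ^ M) with hq
  have hlt : q < ℓ ^ q := Nat.lt_pow_self hp.one_lt
  -- pigeonhole
  obtain ⟨i, j, hij, hne, hjl⟩ : ∃ i j : ℕ, Ideal.Quotient.mk (IsLocalRing.maximalIdeal R ^ M) (z ^ i) =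
      Ideal.Quotient.mk (IsLocalRing.maximalIdeal R ^ M) (z ^ j) ∧ i < j ∧ j < ℓ ^ q := by
    have hcard : Nat.card (R ⧸ IsLocalRing.maximalIdeal R ^ M) < Nat.card (Fin (ℓ ^ q)) := by
      rw [Nat.card_fin]; exact hlt
    have hnot : ¬ Function.Injective (fun i : Fin (ℓ ^ q) =>
        Ideal.Quotient.mk (IsLocalRing.maximalIdeal R ^ M) (z ^ (i : ℕ))) := by
      intro hinj
      exact absurd (Nat.card_le_card_of_injective _ hinj) (not_le.2 hcard)
    rw [Function.Injective] at hnot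
    push Not at hnot
    obtain ⟨i, j, hij, hne⟩ := hnot
    rcases lt_or_gt_of_ne hne with h | h
    · exact ⟨i, j, hij, h, j.2⟩
    · exact ⟨j, i, hij.symm, h, i.2⟩
  have hzu : IsUnit z := hz.isUnit (pow_ne_zero _ hp.ne_zero)
  have hmem : 1 - z ^ (j - i) ∈ IsLocalRing.maximalIdeal R ^ M := by
    rw [Ideal.Quotient.eq] at hij
    have h1 : z ^ i - z ^ j = z ^ i * (1 - z ^ (j - i)) := by
      rw [mul_sub, mul_one, ← pow_add, Nat.add_sub_cancel' hne.le]
    rw [h1] at hij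
    exact (Ideal.unit_mul_mem_iff_mem _ (hzu.pow i)).1 hij
  have hd0 : 0 < j - i := Nat.sub_pos_of_lt hne
  have hdl : j - i < ℓ ^ q := lt_of_le_of_lt (Nat.sub_le _ _) hjl
  generalize j - i = d at hmem hd0 hdl
  obtain ⟨s, d', hd', rfl⟩ := Nat.exists_eq_pow_mul_and_not_dvd hd0.ne' ℓ hp.ne_one
  have hs : s < q := by
    by_contra hcon
    push Not at hcon
    have : ℓ ^ q ≤ ℓ ^ s * d' := by
      calc ℓ ^ q ≤ ℓ ^ s := Nat.pow_le_pow_right hp.pos hcon
        _ ≤ ℓ ^ s * d' := Nat.le_mul_of_pos_right _ (Nat.pos_of_ne_zero (by rintro rfl; simp at hd'))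
    omega
  have hprim : IsPrimitiveRoot (z ^ (ℓ ^ (q - 1) * d')) ℓ := by
    have h1 : IsPrimitiveRoot (z ^ (ℓ ^ (q - 1))) ℓ := by
      refine hz.pow (pow_pos hp.pos _) ?_
      rw [← pow_succ, Nat.sub_add_cancel (by omega)]
    rw [pow_mul]
    exact h1.pow_of_coprime d' (Nat.Coprime.symm ((Nat.Prime.coprime_iff_not_dvd hp).2 hd'))
  have hdvd : (1 - z ^ (ℓ ^ s * d')) ∣ (1 - z ^ (ℓ ^ (q - 1) * d')) := by
    have : z ^ (ℓ ^ (q - 1) * d') = (z ^ (ℓ ^ s * d')) ^ (ℓ ^ (q - 1 - s)) := by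
      rw [← pow_mul]
      congr 1
      have : ℓ ^ (q - 1) = ℓ ^ s * ℓ ^ (q - 1 - s) := by
        rw [← pow_add]; congr 1; omega
      rw [this]; ring
    rw [this]
    exact one_sub_dvd_one_sub_pow _ _
  apply hM
  exact Ideal.mem_of_dvd _ (hdvd.trans (one_sub_dvd_prime hp.one_lt hprim)) hmem

theorem exists_no_root (k : Type u) [Field k] (hk : IsLF k) (ℓ : ℕ) [Fact ℓ.Prime] :
    ∃ n : ℕ, ∀ z : k, ¬ IsPrimitiveRoot z (ℓ ^ n) := by
  obtain ⟨h0, R, _, _, _, _, hH, hF, hfin⟩ := hk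
  have hp : ℓ.Prime := Fact.out
  have hinj : Function.Injective (algebraMap R k) := IsFractionRing.injective R k
  have hℓ : (ℓ : R) ≠ 0 := by
    intro h
    have := congrArg (algebraMap R k) h
    rw [map_natCast, map_zero] at this
    exact hp.ne_zero (Nat.cast_eq_zero.1 this)
  obtain ⟨n, hn⟩ := no_root_of_dvr R ℓ hℓ
  refine ⟨n, fun z hz => ?_⟩
  have hint : IsIntegral R z := by
    refine IsIntegral.of_pow (pow_pos hp.pos n) ?_
    rw [hz.pow_eq_one]
    exact isIntegral_one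
  obtain ⟨y, rfl⟩ := IsIntegrallyClosed.isIntegral_iff.1 hint
  exact hn y (hz.of_map_of_injective hinj)

end Groth.Agent.Etbc.H191.NfRoots
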