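import Groth.Agent.Etbc.H226.NFDefs
import Groth.Agent.Etbc.H226.IndexQuot
import Mathlib.RingTheory.RootsOfUnity.PrimitiveRoots
import Mathlib.RingTheory.Norm.Basic
import Mathlib.RingTheory.DedekindDomain.AdicValuation
import Mathlib.RingTheory.DiscreteValuationRing.TFAE
import Mathlib.GroupTheory.Index

/-!
# The norm symbol of two units outside `ℓ` is trivial
-/

set_option autoImplicit false
universe u
open NumberField IsDedekindDomain Polynomial

namespace Groth.Agent.Etbc.H191.NfUnit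

open Groth.Agent.Etbc.H226.NFDefs Groth.Agent.Etbc.H226.IndexQuot

theorem norm_root {k : Type*} [Field k] (ℓ : ℕ) (hℓ : 0 < ℓ) (b : k) :
    Algebra.norm k (AdjoinRoot.root (X ^ ℓ - C b : k[X])) = (-1) ^ (ℓ + 1) * b := by
  have hm : (X ^ ℓ - C b : k[X]).Monic := monic_X_pow_sub_C b hℓ.ne'
  have h1 := Algebra.PowerBasis.norm_gen_eq_coeff_zero_minpoly (AdjoinRoot.powerBasis' hm)
  have h2 : (AdjoinRoot.powerBasis' hm).gen = AdjoinRoot.root (X ^ ℓ - C b : k[X]) := rfl
  rw [h2, AdjoinRoot.minpoly_root hm.ne_zero, AdjoinRoot.powerBasis'_dim] at h1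
  rw [h1, hm.leadingCoeff, natDegree_X_pow_sub_C]
  simp [pow_succ, hℓ.ne]

/-- `b` is a norm from `k[X]/(X^ℓ - b)` if `ℓ` is odd or `-1` is a square. -/
theorem self_mem_normGroup {k : Type*} [Field k] (ℓ : ℕ) [Fact ℓ.Prime]
    (hpow : ∀ (b : k) (x : kˣ), x ^ ℓ ∈ normGroup ℓ b)
    (hi : ℓ = 2 → ∃ i : k, i ^ 2 = -1) (b : kˣ) : b ∈ normGroup ℓ (b : k) := by
  have hp : ℓ.Prime := Fact.out
  -- the norm of the root
  have hroot : IsUnit (AdjoinRoot.root (X ^ ℓ - C (b : k) : k[X])) := by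
    rw [← isUnit_pow_iff hp.ne_zero]
    have h1 : (AdjoinRoot.root (X ^ ℓ - C (b : k) : k[X])) ^ ℓ = algebraMap k _ (b : k) := by
      have := AdjoinRoot.eval₂_root (X ^ ℓ - C (b : k) : k[X])
      rw [eval₂_sub, eval₂_pow, eval₂_X, eval₂_C, sub_eq_zero] at this
      exact this
    rw [h1]
    exact b.isUnit.map _
  obtain ⟨r, hr⟩ := hroot
  have h1 : Units.map (Algebra.norm k : AdjoinRoot (X ^ ℓ - C (b : k) : k[X]) →* k) r =
      (-1) ^ (ℓ + 1) * b := by
    apply Units.ext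
    simp only [Units.coe_map, Units.val_mul, Units.val_pow_eq_pow_val, Units.val_neg, Units.val_one]
    rw [hr]
    exact norm_root ℓ hp.pos _
  have h2 : ((-1) ^ (ℓ + 1) * b : kˣ) ∈ normGroup ℓ (b : k) := ⟨r, h1⟩
  rcases hp.eq_two_or_odd' with h | h
  · obtain ⟨i, hii⟩ := hi h
    have hi0 : i ≠ 0 := by rintro rfl; simp at hii
    subst h
    have h3 : (Units.mk0 i hi0) ^ 2 = -1 := by
      apply Units.ext
      simp [hii]
    have h4 : (-1 : kˣ) ∈ normGroup 2 (b : k) := by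
      rw [← h3]; exact hpow _ _
    have h5 := mul_mem h4 h2
    have h6 : (-1 : kˣ) * ((-1) ^ (2 + 1) * b) = b := by
      simp [pow_succ]
    rwa [h6] at h5
  · have h3 : (-1 : kˣ) ^ (ℓ + 1) = 1 := (h.add_one).neg_one_pow
    rwa [h3, one_mul] at h2

/-- index of the subgroup of `ℓ`-th powers -/
theorem idx_eq_index (k : Type*) [Field k] (ℓ : ℕ) :
    idx ℓ (Additive kˣ) = (powMonoidHom ℓ : kˣ →* kˣ).range.index := by
  unfold idx
  have : (nsmulAddMonoidHom (α := Additive kˣ) ℓ).range =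
      Subgroup.toAddSubgroup (powMonoidHom ℓ : kˣ →* kˣ).range := by
    ext x
    constructor
    · rintro ⟨y, rfl⟩
      exact ⟨Additive.toMul y, rfl⟩
    · rintro ⟨y, hy⟩
      exact ⟨Additive.ofMul y, hy⟩
  rw [this]
  rfl

/-- the valuation of a discrete valuation ring modulo `ℓ`, as a surjective homomorphism -/
theorem exists_val (R k : Type*) [CommRing R] [IsDomain R] [IsDiscreteValuationRing R]
    [Field k] [Algebra R k] [IsFractionRing R k] :
    ∃ φ : kˣ →* Multiplicative ℤ, Function.Surjective φ ∧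
      ∀ u : Rˣ, φ (Units.map (algebraMap R k : R →* k) u) = 1 := by
  let v : HeightOneSpectrum R := ⟨IsLocalRing.maximalIdeal R, inferInstance,
    IsDiscreteValuationRing.not_a_field R⟩
  let φ : kˣ →* Multiplicative ℤ :=
    (WithZero.unitsWithZeroEquiv (α := Multiplicative ℤ)).toMonoidHom.comp
      (Units.map (v.valuation k : k →* WithZero (Multiplicative ℤ)))
  refine ⟨φ, ?_, ?_⟩
  · intro y
    obtain ⟨x, hx⟩ := v.valuation_surjective k (y : WithZero (Multiplicative ℤ))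
    have hx0 : x ≠ 0 := by
      rintro rfl
      rw [map_zero] at hx
      exact WithZero.coe_ne_zero hx.symm
    refine ⟨Units.mk0 x hx0, ?_⟩
    apply (WithZero.unitsWithZeroEquiv (α := Multiplicative ℤ)).symm.injective
    apply Units.ext
    simp [φ, hx]
  · intro u
    apply (WithZero.unitsWithZeroEquiv (α := Multiplicative ℤ)).symm.injective
    apply Units.ext
    have h1 : v.valuation k (algebraMap R k u) = 1 := by
      rw [HeightOneSpectrum.valuation_of_algebraMap, HeightOneSpectrum.intValuation_eq_one_iff]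
      intro h
      exact v.isPrime.ne_top (Ideal.eq_top_of_isUnit_mem _ h u.isUnit)
    simp [φ, h1]
    rfl

/-- Symbols of units are trivial when `(kˣ : kˣ^ℓ) = ℓ²`. -/
theorem unit_mem_normGroup (R k : Type*) [CommRing R] [IsDomain R] [IsDiscreteValuationRing R]
    [Field k] [Algebra R k] [IsFractionRing R k] (ℓ : ℕ) [Fact ℓ.Prime]
    (hidx : idx ℓ (Additive kˣ) = ℓ ^ 2)
    (hpow : ∀ (b : k) (x : kˣ), x ^ ℓ ∈ normGroup ℓ b)
    (htop : ∀ (b : kˣ), normGroup ℓ ((b : k) ^ ℓ) = ⊤)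
    (hi : ℓ = 2 → ∃ i : k, i ^ 2 = -1) (a b : Rˣ) :
    Units.map (algebraMap R k : R →* k) a ∈
      normGroup ℓ ((Units.map (algebraMap R k : R →* k) b : kˣ) : k) := by
  have hp : ℓ.Prime := Fact.out
  set P : Subgroup kˣ := (powMonoidHom ℓ : kˣ →* kˣ).range with hP
  set U : Subgroup kˣ := (Units.map (algebraMap R k : R →* k)).range with hU
  set β : kˣ := Units.map (algebraMap R k : R →* k) b with hβ
  have hPidx : P.index = ℓ ^ 2 := by rw [hP, ← idx_eq_index, hidx]
  by_cases hb : β ∈ P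
  · obtain ⟨x, hx⟩ := hb
    have : ((β : kˣ) : k) = (x : k) ^ ℓ := by rw [← hx]; rfl
    rw [this, htop]
    trivial
  obtain ⟨φ, hφ, hφU⟩ := exists_val R k
  -- index of `U ⊔ P`
  let ψ : kˣ →* Multiplicative (ZMod ℓ) := (AddMonoidHom.toMultiplicative (Int.castAddHom (ZMod ℓ))).comp φ
  have hψ : Function.Surjective ψ := by
    intro y
    obtain ⟨n, hn⟩ := ZMod.intCast_surjective (Multiplicative.toAdd y)
    obtain ⟨x, hx⟩ := hφ (Multiplicative.ofAdd n)
    refine ⟨x, ?_⟩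
    change (AddMonoidHom.toMultiplicative (Int.castAddHom (ZMod ℓ))) (φ x) = y
    rw [hx]
    exact congrArg Multiplicative.ofAdd hn
  have hψidx : ψ.ker.index = ℓ := by
    rw [Subgroup.index_ker, MonoidHom.range_eq_top.2 hψ]
    have : Nat.card (Multiplicative (ZMod ℓ)) = ℓ := by
      rw [Nat.card_congr Multiplicative.toAdd]; simp
    rw [Subgroup.card_top]
    exact this
  have hle : U ⊔ P ≤ ψ.ker := by
    rw [sup_le_iff]
    constructor
    · rintro _ ⟨u, rfl⟩
      rw [MonoidHom.mem_ker]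
      change (AddMonoidHom.toMultiplicative (Int.castAddHom (ZMod ℓ))) (φ _) = 1
      rw [hφU, map_one]
    · rintro _ ⟨x, rfl⟩
      rw [MonoidHom.mem_ker]
      change ψ (x ^ ℓ) = 1
      rw [map_pow]
      apply Multiplicative.toAdd.injective
      rw [toAdd_pow, toAdd_one, nsmul_eq_mul, CharP.cast_eq_zero, zero_mul]
  have h1 : ℓ ∣ (U ⊔ P).index := by
    rw [← hψidx]
    exact Subgroup.index_dvd_of_le hle
  have h2 : P.relIndex (U ⊔ P) * (U ⊔ P).index = ℓ ^ 2 := by
    rw [Subgroup.relIndex_mul_index le_sup_right, hPidx]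
  have h3 : P.relIndex (U ⊔ P) ∣ ℓ := by
    obtain ⟨m, hm⟩ := h1
    rw [hm] at h2
    refine ⟨m, ?_⟩
    have : ℓ * (P.relIndex (U ⊔ P) * m) = ℓ * ℓ := by
      rw [← pow_two, ← h2]; ring
    exact (Nat.eq_of_mul_eq_mul_left hp.pos this).symm
  -- the subgroup generated by `β`
  have hβU : β ∈ U := ⟨b, rfl⟩
  set Z : Subgroup kˣ := Subgroup.zpowers β ⊔ P with hZ
  have hZle : Z ≤ U ⊔ P := by
    rw [hZ, sup_le_iff]
    refine ⟨?_, le_sup_right⟩
    rw [Subgroup.zpowers_le]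
    exact Subgroup.mem_sup_left hβU
  have h4 : P.relIndex Z * Z.relIndex (U ⊔ P) = P.relIndex (U ⊔ P) :=
    Subgroup.relIndex_mul_relIndex _ _ _ le_sup_right hZle
  have h5 : P.relIndex Z ≠ 1 := by
    intro h
    rw [Subgroup.relIndex_eq_one] at h
    exact hb (h (Subgroup.mem_sup_left (Subgroup.mem_zpowers β)))
  have h6 : P.relIndex Z = ℓ := by
    rcases (Nat.dvd_prime hp).1 ((Dvd.intro _ h4).trans h3) with h | h
    · exact absurd h h5
    · exact h
  have h7 : Z.relIndex (U ⊔ P) = 1 := by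
    have h8 : ℓ * Z.relIndex (U ⊔ P) ∣ ℓ := by rw [← h6, h4, h6]; exact h3
    have h9 := Nat.le_of_dvd hp.pos h8
    have h10 : Z.relIndex (U ⊔ P) ≠ 0 := by
      intro h
      rw [h, mul_zero, zero_dvd_iff] at h8
      exact hp.ne_zero h8
    have h11 : Z.relIndex (U ⊔ P) ≤ 1 := by
      by_contra hcon
      push Not at hcon
      have : ℓ * 2 ≤ ℓ * Z.relIndex (U ⊔ P) := Nat.mul_le_mul_left _ hcon
      have := hp.pos
      omega
    omega
  rw [Subgroup.relIndex_eq_one] at h7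
  have haU : Units.map (algebraMap R k : R →* k) a ∈ Z := h7 (Subgroup.mem_sup_left ⟨a, rfl⟩)
  rw [hZ] at haU
  refine (sup_le ?_ ?_ : Subgroup.zpowers β ⊔ P ≤ normGroup ℓ (β : k)) haU
  · rw [Subgroup.zpowers_le]
    exact self_mem_normGroup ℓ hpow hi β
  · rintro _ ⟨x, rfl⟩
    exact hpow _ _

end Groth.Agent.Etbc.H191.NfUnit
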