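import Groth.Agent.Etbc.H191.NfLocal
import Groth.Agent.Etbc.H191.NfUnit
import Groth.Agent.Etbc.H191.NfRoots
import Groth.Agent.Etbc.H191.NfCompl
import Groth.Agent.Etbc.H197.C1
import Groth.Agent.Etbc.H205.C2
import Groth.Agent.Etbc.H222.AdicLF
import Groth.Agent.Etbc.H226.Places
import Mathlib.RingTheory.DedekindDomain.FiniteAdeleRing
import Mathlib.NumberTheory.NumberField.InfinitePlace.TotallyRealComplex

/-!
# Symbols become trivial over the `ℓ`-cyclotomic extension of a number field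

`main`: for `E` algebraic over `ℚ` containing all roots of unity of `ℓ`-power order, `normGroup ℓ b = ⊤` for all
`b ∈ Eˣ`, given the index of local norm groups (C4) and the Hasse norm theorem (D2).
-/

set_option autoImplicit false
universe u
open NumberField IsDedekindDomain Polynomial

namespace Groth.Agent.Etbc.H191.NfE

open Groth.Agent.Etbc.H226.NFDefs Groth.Agent.Etbc.H214.NormGroup Groth.Agent.Etbc.H226

/-- the index of local norm groups -/
def C4Stmt (ℓ : ℕ) : Prop :=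
  ∀ (k : Type u) [Field k], IsLF k → (∃ ζ : k, IsPrimitiveRoot ζ ℓ) →
    ∀ b : kˣ, (¬ ∃ c : kˣ, c ^ ℓ = b) → (normGroup ℓ (b : k)).index = ℓ

/-- the Hasse norm theorem for Kummer extensions of prime degree -/
def D2Stmt (ℓ : ℕ) : Prop :=
  ∀ (K : Type u) [Field K] [NumberField K] [IsTotallyComplex K], (∃ ζ : K, IsPrimitiveRoot ζ ℓ) →
    ∀ a b : Kˣ,
      (∀ v : HeightOneSpectrum (𝓞 K),
        Units.map (algebraMap K (v.adicCompletion K) : K →* v.adicCompletion K) a ∈
          normGroup ℓ (algebraMap K (v.adicCompletion K) (b : K))) →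
      a ∈ normGroup ℓ (b : K)

variable {ℓ : ℕ} [Fact ℓ.Prime]

theorem C5_of (h4 : C4Stmt.{u} ℓ) (k k₁ : Type u) [Field k] [Field k₁] [Algebra k k₁] (hk : IsLF k)
    (hζ : ∃ ζ : k, IsPrimitiveRoot ζ ℓ) (hk₁ : Module.finrank k k₁ = ℓ) (a b : kˣ)
    (c : k₁) (hc : c ^ ℓ ∈ (algebraMap k k₁).range) (hc' : c ∉ (algebraMap k k₁).range) :
    Units.map (algebraMap k k₁ : k →* k₁) a ∈ normGroup ℓ (algebraMap k k₁ b) := by
  have hp : ℓ.Prime := Fact.out
  have : FiniteDimensional k k₁ := FiniteDimensional.of_finrank_pos (by rw [hk₁]; exact hp.pos)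
  obtain ⟨ζ, hζ0⟩ := hζ
  refine NfLocal.C5_of_C4 ℓ ⟨ζ, hζ0⟩ hk₁ (h4 k hk ⟨ζ, hζ0⟩)
    (h4 k₁ (H205.C2.isLF_of_finite k k₁ hk) ⟨_, hζ0.map_of_injective (algebraMap k k₁).injective⟩) a b c hc hc'

/-- If `k` is a local field and `k'` contains roots of unity of `ℓ`-power order not in `k`, all symbols of `k`
become trivial in `k'`. -/
theorem mem_of_root (h4 : C4Stmt.{u} ℓ) (k k' : Type u) [Field k] [Field k'] (hk : IsLF k)
    (f : k →+* k') (hζ : ∃ ζ : k, IsPrimitiveRoot ζ ℓ) (N : ℕ) (hN : ∀ z : k, ¬ IsPrimitiveRoot z (ℓ ^ N))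
    (hξ : ∃ ξ : k', IsPrimitiveRoot ξ (ℓ ^ N)) (a b : kˣ) :
    Units.map (f : k →* k') a ∈ normGroup ℓ (f b) := by
  classical
  have hp : ℓ.Prime := Fact.out
  have hℓ : ℓ ≠ 0 := hp.ne_zero
  obtain ⟨ζ, hζ0⟩ := hζ
  obtain ⟨ξ, hξ⟩ := hξ
  have hex : ∃ j : ℕ, ∀ z : k, ¬ IsPrimitiveRoot z (ℓ ^ j) := ⟨N, hN⟩
  obtain ⟨j, hj, hjmin⟩ : ∃ j : ℕ, (∀ z : k, ¬ IsPrimitiveRoot z (ℓ ^ j)) ∧
      ∀ i < j, ∃ z : k, IsPrimitiveRoot z (ℓ ^ i) := by
    refine ⟨Nat.find hex, Nat.find_spec hex, fun i hi => ?_⟩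
    have := Nat.find_min hex hi
    push Not at this
    exact this
  have hj0 : j ≠ 0 := by
    rintro rfl
    exact hj 1 (by rw [pow_zero]; exact IsPrimitiveRoot.one)
  obtain ⟨m, rfl⟩ := Nat.exists_eq_succ_of_ne_zero hj0
  have hmN : m.succ ≤ N := by
    by_contra hlt
    push Not at hlt
    obtain ⟨z, hz⟩ := hjmin N hlt
    exact hN z hz
  obtain ⟨η, hη⟩ := hjmin m (Nat.lt_succ_self m)
  have hfη : IsPrimitiveRoot (f η) (ℓ ^ m) := hη.map_of_injective f.injective
  -- the new root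
  obtain ⟨c, hc⟩ : ∃ c : k', IsPrimitiveRoot c (ℓ ^ m.succ) := by
    refine ⟨ξ ^ (ℓ ^ (N - m.succ)), hξ.pow (pow_pos hp.pos _) ?_⟩
    rw [← pow_add, Nat.sub_add_cancel hmN]
  have hcl : IsPrimitiveRoot (c ^ ℓ) (ℓ ^ m) :=
    hc.pow (pow_pos hp.pos _) (by rw [Nat.succ_eq_add_one, pow_succ']) 
  have hm0 : ℓ ^ m ≠ 0 := pow_ne_zero _ hℓ
  have : NeZero (ℓ ^ m) := ⟨hm0⟩
  obtain ⟨i, -, hi⟩ := hfη.eq_pow_of_pow_eq_one hcl.pow_eq_one
  set γ : k := η ^ i with hγ
  have hfγ : f γ = c ^ ℓ := by rw [hγ, map_pow, hi]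
  have hcr : c ∉ f.range := by
    rintro ⟨x, rfl⟩
    exact hj x (hc.of_map_of_injective f.injective)
  have hc0 : c ≠ 0 := hc.ne_zero (pow_ne_zero _ hℓ)
  have : NeZero ℓ := ⟨hℓ⟩
  have hγl : ∀ x : k, x ^ ℓ ≠ γ := by
    intro x hx
    have hx1 : f x ≠ 0 := by
      intro h0
      rw [← hx, map_pow, h0, zero_pow hℓ] at hfγ
      exact pow_ne_zero _ hc0 hfγ.symm
    have h1 : (c / f x) ^ ℓ = 1 := by
      rw [div_pow, ← hfγ, ← hx, map_pow, div_self (pow_ne_zero _ hx1)]
    obtain ⟨r, -, hr⟩ := (hζ0.map_of_injective f.injective).eq_pow_of_pow_eq_one h1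
    apply hcr
    refine ⟨ζ ^ r * x, ?_⟩
    rw [map_mul, map_pow, hr, div_mul_cancel₀ _ hx1]
  have : Fact (Irreducible (X ^ ℓ - C γ : k[X])) := ⟨irreducible hγl⟩
  have key := C5_of h4 k (AdjoinRoot (X ^ ℓ - C γ : k[X])) hk ⟨ζ, hζ0⟩ (finrank_eq hℓ γ) a b
    (AdjoinRoot.root _) ⟨γ, (root_pow γ).symm⟩ (by
      rintro ⟨x, hx⟩
      apply hγl x
      apply (algebraMap k (AdjoinRoot (X ^ ℓ - C γ : k[X]))).injective
      have e : (algebraMap k (AdjoinRoot (X ^ ℓ - C γ : k[X])) x) ^ ℓ =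
          algebraMap k (AdjoinRoot (X ^ ℓ - C γ : k[X])) γ := by rw [hx, root_pow]
      rw [← e]
      exact map_pow _ _ _)
  let g : AdjoinRoot (X ^ ℓ - C γ : k[X]) →+* k' := AdjoinRoot.lift f c (by
    rw [eval₂_sub, eval₂_pow, eval₂_X, eval₂_C, hfγ, sub_self])
  have hg : ∀ x : k, g (algebraMap k _ x) = f x := fun x => AdjoinRoot.lift_of _
  have h1 := C3map (ℓ := ℓ) g _ _ key
  rw [hg] at h1
  have h2 : Units.map (g : AdjoinRoot (X ^ ℓ - C γ : k[X]) →* k')
      (Units.map (algebraMap k (AdjoinRoot (X ^ ℓ - C γ : k[X])) : k →* _) a) = Units.map (f : k →* k') a :=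
    Units.ext (hg a)
  rwa [h2] at h1

/-- the places at which `x` is not a unit -/
theorem finite_ne_one (K : Type*) [Field K] [NumberField K] (x : Kˣ) :
    {v : HeightOneSpectrum (𝓞 K) | v.valuation K (x : K) ≠ 1}.Finite := by
  have h1 := HeightOneSpectrum.Support.finite (𝓞 K) (x : K)
  have h2 := HeightOneSpectrum.Support.finite (𝓞 K) ((x⁻¹ : Kˣ) : K)
  refine (h1.union h2).subset ?_
  intro v hv
  rcases lt_or_gt_of_ne (hv : v.valuation K (x : K) ≠ 1) with h | h
  · right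
    change 1 < v.valuation K ((x⁻¹ : Kˣ) : K)
    rw [Units.val_inv_eq_inv_val, map_inv₀]
    exact (one_lt_inv₀ (zero_lt_iff.2 (by simp))).2 h
  · left
    exact h

/-- Units at a place not dividing `ℓ`: symbols are trivial. -/
theorem mem_of_unit (L : Type u) [Field L] [NumberField L] (w : HeightOneSpectrum (𝓞 L))
    (hζ : ∃ ζ : L, IsPrimitiveRoot ζ ℓ) (hi : ℓ = 2 → ∃ i : L, i ^ 2 = -1)
    (hw : (ℓ : 𝓞 L) ∉ w.asIdeal) (a b : Lˣ) (ha : w.valuation L (a : L) = 1)
    (hb : w.valuation L (b : L) = 1) :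
    Units.map (algebraMap L (w.adicCompletion L) : L →* w.adicCompletion L) a ∈
      normGroup ℓ (algebraMap L (w.adicCompletion L) (b : L)) := by
  have hp : ℓ.Prime := Fact.out
  obtain ⟨ζ, hζ0⟩ := hζ
  have hζw : ∃ ζ : w.adicCompletion L, IsPrimitiveRoot ζ ℓ :=
    ⟨_, hζ0.map_of_injective (algebraMap L (w.adicCompletion L)).injective⟩
  have := H222.AdicLF.henselian (K := L) w
  have : Finite (IsLocalRing.ResidueField (w.adicCompletionIntegers L)) :=
    H222.AdicLF.finite_residueField w (w.asIdeal.finiteQuotientOfFreeOfNeBot w.ne_bot)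
  have : CharZero (w.adicCompletion L) :=
    charZero_of_injective_algebraMap (algebraMap L (w.adicCompletion L)).injective
  have hidx := H197.C1.C1 (w.adicCompletionIntegers L) (w.adicCompletion L) ℓ hζw
  have hunit : IsUnit (ℓ : w.adicCompletionIntegers L) := by
    rw [HeightOneSpectrum.adicCompletionIntegers.isUnit_iff_valued_eq_one]
    have h1 : ((ℓ : w.adicCompletionIntegers L) : w.adicCompletion L) = ((ℓ : L) : w.adicCompletion L) := by
      push_cast
      exact (map_natCast (algebraMap L (w.adicCompletion L)) ℓ).symm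
    rw [h1, HeightOneSpectrum.valuedAdicCompletion_eq_valuation']
    have h2 : (ℓ : L) = algebraMap (𝓞 L) L (ℓ : 𝓞 L) := by simp
    rw [h2]
    have h3 := w.valuation_le_one (K := L) (ℓ : 𝓞 L)
    have h4 : ¬ w.valuation L (algebraMap (𝓞 L) L (ℓ : 𝓞 L)) < 1 := by
      rw [HeightOneSpectrum.valuation_lt_one_iff_mem]; exact hw
    exact le_antisymm h3 (not_lt.1 h4)
  have hcard : Nat.card (w.adicCompletionIntegers L ⧸ Ideal.span {(ℓ : w.adicCompletionIntegers L)}) = 1 := by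
    rw [Ideal.span_singleton_eq_top.2 hunit]
    have : Subsingleton (w.adicCompletionIntegers L ⧸ (⊤ : Ideal (w.adicCompletionIntegers L))) :=
      Ideal.Quotient.subsingleton_iff.2 rfl
    exact Nat.card_unique
  rw [hcard, mul_one] at hidx
  have hi' : ℓ = 2 → ∃ i : w.adicCompletion L, i ^ 2 = -1 := by
    intro h
    obtain ⟨i, hi⟩ := hi h
    refine ⟨algebraMap L _ i, ?_⟩
    rw [← map_pow, hi, map_neg, map_one]
  -- lift units
  have hlift : ∀ x : Lˣ, w.valuation L (x : L) = 1 → ∃ y : (w.adicCompletionIntegers L)ˣ,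
      Units.map (algebraMap (w.adicCompletionIntegers L) (w.adicCompletion L) : _ →* _) y =
        Units.map (algebraMap L (w.adicCompletion L) : L →* w.adicCompletion L) x := by
    intro x hx
    have hx' : Valued.v ((x : L) : w.adicCompletion L) = (1 : WithZero (Multiplicative ℤ)) := by
      rw [HeightOneSpectrum.valuedAdicCompletion_eq_valuation', hx]
    have hu : IsUnit (⟨((x : L) : w.adicCompletion L), hx'.le⟩ : w.adicCompletionIntegers L) := by
      rw [HeightOneSpectrum.adicCompletionIntegers.isUnit_iff_valued_eq_one]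
      exact hx'
    exact ⟨hu.unit, Units.ext rfl⟩
  obtain ⟨a', ha'⟩ := hlift a ha
  obtain ⟨b', hb'⟩ := hlift b hb
  have h := NfUnit.unit_mem_normGroup (w.adicCompletionIntegers L) (w.adicCompletion L) ℓ hidx
    (fun b x => C3pow hp.ne_zero b x) (fun b => C3top hζw b) hi' a' b'
  rw [ha', hb'] at h
  exact h

/-- all symbols of `K` are locally trivial over an extension `L` with enough roots of unity -/
theorem local_triv (h4 : C4Stmt.{u} ℓ) (K L : Type u) [Field K] [NumberField K] [Field L] [NumberField L]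
    [Algebra K L] (hζ : ∃ ζ : K, IsPrimitiveRoot ζ ℓ) (hi : ℓ = 2 → ∃ i : K, i ^ 2 = -1) (a b : Kˣ)
    (N : ℕ) (hN : ∀ v : HeightOneSpectrum (𝓞 K), (v.valuation K (a : K) ≠ 1 ∨ v.valuation K (b : K) ≠ 1 ∨
      (ℓ : 𝓞 K) ∈ v.asIdeal) → ∀ z : v.adicCompletion K, ¬ IsPrimitiveRoot z (ℓ ^ N))
    (hξ : ∃ ξ : L, IsPrimitiveRoot ξ (ℓ ^ N)) (w : HeightOneSpectrum (𝓞 L)) :
    Units.map (algebraMap L (w.adicCompletion L) : L →* w.adicCompletion L)
        (Units.map (algebraMap K L : K →* L) a) ∈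
      normGroup ℓ (algebraMap L (w.adicCompletion L) ((Units.map (algebraMap K L : K →* L) b : Lˣ) : L)) := by
  have hp : ℓ.Prime := Fact.out
  obtain ⟨ζ, hζ0⟩ := hζ
  obtain ⟨ξ, hξ⟩ := hξ
  set v : HeightOneSpectrum (𝓞 K) := Places.below K w with hv
  have hlo : w.asIdeal.LiesOver v.asIdeal := Places.below_liesOver w
  by_cases hS : v.valuation K (a : K) ≠ 1 ∨ v.valuation K (b : K) ≠ 1 ∨ (ℓ : 𝓞 K) ∈ v.asIdeal
  · obtain ⟨f, hf⟩ := NfCompl.exists_ringHom K L v w hlo
    have h := mem_of_root h4 (v.adicCompletion K) (w.adicCompletion L) (H222.AdicLF.isLF_adicCompletion K v) f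
      ⟨_, hζ0.map_of_injective (algebraMap K (v.adicCompletion K)).injective⟩ N (hN v hS)
      ⟨_, hξ.map_of_injective (algebraMap L (w.adicCompletion L)).injective⟩
      (Units.map (algebraMap K (v.adicCompletion K) : K →* v.adicCompletion K) a)
      (Units.map (algebraMap K (v.adicCompletion K) : K →* v.adicCompletion K) b)
    have hfx : ∀ x : K, f (algebraMap K (v.adicCompletion K) x) =
        algebraMap L (w.adicCompletion L) (algebraMap K L x) := fun x => DFunLike.congr_fun hf x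
    have e1 : Units.map (f : v.adicCompletion K →* w.adicCompletion L)
        (Units.map (algebraMap K (v.adicCompletion K) : K →* v.adicCompletion K) a) =
        Units.map (algebraMap L (w.adicCompletion L) : L →* w.adicCompletion L)
          (Units.map (algebraMap K L : K →* L) a) := Units.ext (hfx a)
    have e2 : f ((Units.map (algebraMap K (v.adicCompletion K) : K →* v.adicCompletion K) b : _) :
        v.adicCompletion K) = algebraMap L (w.adicCompletion L)
          ((Units.map (algebraMap K L : K →* L) b : Lˣ) : L) := hfx b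
    rw [e1, e2] at h
    exact h
  · push Not at hS
    obtain ⟨ha, hb, hl⟩ := hS
    have hval : ∀ x : K, v.valuation K x = 1 → w.valuation L (algebraMap K L x) = 1 := by
      intro x hx
      rw [← HeightOneSpectrum.valuation_liesOver (K := K) L v w x, hx, one_pow]
    refine mem_of_unit L w ⟨_, hζ0.map_of_injective (algebraMap K L).injective⟩ ?_ ?_ _ _
      (hval a ha) (hval b hb)
    · intro h
      obtain ⟨i, hi⟩ := hi h
      refine ⟨algebraMap K L i, ?_⟩
      rw [← map_pow, hi, map_neg, map_one]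
    · intro h
      apply hl
      rw [hlo.over]
      change algebraMap (𝓞 K) (𝓞 L) (ℓ : 𝓞 K) ∈ w.asIdeal
      rwa [map_natCast]

theorem main (h4 : C4Stmt.{u} ℓ) (h2 : D2Stmt.{u} ℓ) (E : Type u) [Field E] [CharZero E]
    [Algebra.IsAlgebraic ℚ E] (h : ∀ n, ∃ ζ : E, IsPrimitiveRoot ζ (ℓ ^ n)) (b : Eˣ) :
    normGroup ℓ (b : E) = ⊤ := by
  classical
  have hp : ℓ.Prime := Fact.out
  rw [eq_top_iff]
  intro a _
  choose ζ hζ using h
  -- the base field
  let s : Set E := {(a : E), (b : E), ζ 2}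
  have hs : s.Finite := by simp [s]
  let K : IntermediateField ℚ E := IntermediateField.adjoin ℚ s
  have hKfin : FiniteDimensional ℚ K := by
    have : Finite s := hs
    exact IntermediateField.finiteDimensional_adjoin (fun x _ => Algebra.IsIntegral.isIntegral x)
  have : NumberField K := { to_charZero := inferInstance, to_finiteDimensional := hKfin }
  have hsK : ∀ x ∈ s, x ∈ K := fun x hx => IntermediateField.subset_adjoin ℚ s hx
  let aK : Kˣ := Units.mk0 ⟨(a : E), hsK _ (by simp [s])⟩ (by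
    intro h0; exact a.ne_zero (congrArg Subtype.val h0))
  let bK : Kˣ := Units.mk0 ⟨(b : E), hsK _ (by simp [s])⟩ (by
    intro h0; exact b.ne_zero (congrArg Subtype.val h0))
  let zK : K := ⟨ζ 2, hsK _ (by simp [s])⟩
  have hzK : IsPrimitiveRoot zK (ℓ ^ 2) :=
    IsPrimitiveRoot.of_map_of_injective (f := algebraMap K E) (hζ 2) (algebraMap K E).injective
  have hζK : IsPrimitiveRoot (zK ^ ℓ) ℓ := hzK.pow (pow_pos hp.pos _) (by ring)
  have hiK : ℓ = 2 → ∃ i : K, i ^ 2 = -1 := by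
    rintro rfl
    exact ⟨zK, hζK.eq_neg_one_of_two_right⟩
  -- bound
  have hbad : {v : HeightOneSpectrum (𝓞 K) | v.valuation K (aK : K) ≠ 1 ∨ v.valuation K (bK : K) ≠ 1 ∨
      (ℓ : 𝓞 K) ∈ v.asIdeal}.Finite := by
    have hℓ0 : (ℓ : K) ≠ 0 := Nat.cast_ne_zero.2 hp.ne_zero
    refine ((finite_ne_one K aK).union ((finite_ne_one K bK).union
      (finite_ne_one K (Units.mk0 (ℓ : K) hℓ0)))).subset ?_
    rintro v (hv | hv | hv)
    · exact Or.inl hv
    · exact Or.inr (Or.inl hv)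
    · refine Or.inr (Or.inr ?_)
      have h1 := (HeightOneSpectrum.valuation_lt_one_iff_mem (K := K) v (ℓ : 𝓞 K)).2 hv
      have e : algebraMap (𝓞 K) K (ℓ : 𝓞 K) = ((Units.mk0 (ℓ : K) hℓ0 : Kˣ) : K) := by simp
      have h2 : v.valuation K ((Units.mk0 (ℓ : K) hℓ0 : Kˣ) : K) < 1 := by
        rw [← e]; exact h1
      exact h2.ne
  have hex : ∀ v : HeightOneSpectrum (𝓞 K), ∃ n : ℕ, ∀ z : v.adicCompletion K, ¬ IsPrimitiveRoot z (ℓ ^ n) :=
    fun v => NfRoots.exists_no_root _ (H222.AdicLF.isLF_adicCompletion K v) ℓ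
  choose n hn using hex
  obtain ⟨N, hN⟩ : ∃ N : ℕ, ∀ v ∈ hbad.toFinset, n v ≤ N :=
    ⟨hbad.toFinset.sup n, fun v hv => Finset.le_sup hv⟩
  have hN' : ∀ v : HeightOneSpectrum (𝓞 K), (v.valuation K (aK : K) ≠ 1 ∨ v.valuation K (bK : K) ≠ 1 ∨
      (ℓ : 𝓞 K) ∈ v.asIdeal) → ∀ z : v.adicCompletion K, ¬ IsPrimitiveRoot z (ℓ ^ N) := by
    intro v hv z hz
    have h1 := hN v (hbad.mem_toFinset.2 hv)
    refine hn v (z ^ (ℓ ^ (N - n v))) (hz.pow (pow_pos hp.pos _) ?_)
    rw [← pow_add, Nat.sub_add_cancel h1]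
  -- the extension
  let L : IntermediateField ℚ E := IntermediateField.adjoin ℚ (insert (ζ N) s)
  have hLfin : FiniteDimensional ℚ L := by
    have : Finite (insert (ζ N) s : Set E) := hs.insert _
    exact IntermediateField.finiteDimensional_adjoin (fun x _ => Algebra.IsIntegral.isIntegral x)
  have : NumberField L := { to_charZero := inferInstance, to_finiteDimensional := hLfin }
  have hKL : K ≤ L := IntermediateField.adjoin.mono ℚ _ _ (Set.subset_insert _ _)
  let _ : Algebra K L := (IntermediateField.inclusion hKL).toRingHom.toAlgebra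
  have hLE : ∀ x : K, ((algebraMap K L x : L) : E) = x := fun x => rfl
  let xL : L := ⟨ζ N, IntermediateField.subset_adjoin ℚ _ (Set.mem_insert _ _)⟩
  have hxL : IsPrimitiveRoot xL (ℓ ^ N) :=
    IsPrimitiveRoot.of_map_of_injective (f := algebraMap L E) (hζ N) (algebraMap L E).injective
  have htc : IsTotallyComplex L := by
    have hzL := hzK.map_of_injective (algebraMap K L).injective
    rw [← nrRealPlaces_eq_zero_iff]
    exact NumberField.InfinitePlace.IsPrimitiveRoot.nrRealPlaces_eq_zero_of_two_lt (by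
      have := hp.two_le
      nlinarith) hzL
  have hloc := local_triv h4 K L ⟨_, hζK⟩ hiK aK bK N hN' ⟨xL, hxL⟩
  have hglob := h2 L ⟨_, hζK.map_of_injective (algebraMap K L).injective⟩ _ _ hloc
  have h3 := C3map (ℓ := ℓ) (algebraMap L E) _ _ hglob
  have e1 : Units.map (algebraMap L E : L →* E) (Units.map (algebraMap K L : K →* L) aK) = a := Units.ext rfl
  have e2 : algebraMap L E ((Units.map (algebraMap K L : K →* L) bK : Lˣ) : L) = b := rfl
  rw [e1, e2] at h3
  exact h3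

end Groth.Agent.Etbc.H191.NfE
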