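import Groth.Agent.Etbc.H191.NfE
import Groth.Agent.Etbc.H197.C4

/-!
# C5 and E of the number field package
-/

set_option autoImplicit false
universe u
open NumberField IsDedekindDomain Polynomial

namespace Groth.Agent.Etbc.H191.NfFinal

open Groth.Agent.Etbc.H226.NFDefs

theorem c4Stmt (ℓ : ℕ) [Fact ℓ.Prime] : NfE.C4Stmt.{u} ℓ :=
  fun k _ hk hζ b hb => Groth.Agent.Etbc.H197.C4 ℓ k hk hζ b hb

/-- symbols of `k` vanish after a Kummer extension of degree `ℓ` -/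
theorem C5 (ℓ : ℕ) [Fact ℓ.Prime] (k k₁ : Type u) [Field k] [Field k₁] [Algebra k k₁] (hk : IsLF k)
    (hζ : ∃ ζ : k, IsPrimitiveRoot ζ ℓ) (hk₁ : Module.finrank k k₁ = ℓ) (a b : kˣ)
    (c : k₁) (hc : c ^ ℓ ∈ (algebraMap k k₁).range) (hc' : c ∉ (algebraMap k k₁).range) :
    Units.map (algebraMap k k₁ : k →* k₁) a ∈ normGroup ℓ (algebraMap k k₁ b) :=
  NfE.C5_of (c4Stmt ℓ) k k₁ hk hζ hk₁ a b c hc hc'

/-- `E` from the Hasse norm theorem -/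
theorem E_of_D2 (ℓ : ℕ) [Fact ℓ.Prime] (h2 : NfE.D2Stmt.{u} ℓ) (E : Type u) [Field E] [CharZero E]
    [Algebra.IsAlgebraic ℚ E] (h : ∀ n, ∃ ζ : E, IsPrimitiveRoot ζ (ℓ ^ n)) (b : Eˣ) :
    normGroup ℓ (b : E) = ⊤ :=
  NfE.main (c4Stmt ℓ) h2 E h b

end Groth.Agent.Etbc.H191.NfFinal
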