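import Groth.Agent.Etbc.H226.NFDefs
import Mathlib.RingTheory.Norm.Transitivity
import Mathlib.FieldTheory.KummerExtension

/-!
# Norms of norm groups in finite extensions
-/

set_option autoImplicit false
universe u
open NumberField IsDedekindDomain Polynomial

namespace Groth.Agent.Etbc.H191.NfTrans

open Groth.Agent.Etbc.H226.NFDefs

/-- The norm of `k₁ / k` maps norms from `k₁[X]/(X^ℓ - d)` to norms from `k[X]/(X^ℓ - d)`. -/
theorem norm_mem_normGroup {k k₁ : Type u} [Field k] [Field k₁] [Algebra k k₁]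
    (ℓ : ℕ) [Fact ℓ.Prime] (d : kˣ) (hd : ¬ ∃ x : kˣ, x ^ ℓ = d) (θ : k₁ˣ)
    (hθ : θ ∈ normGroup ℓ (algebraMap k k₁ (d : k))) :
    Units.map (Algebra.norm k : k₁ →* k) θ ∈ normGroup ℓ (d : k) := by
  have hp : ℓ.Prime := Fact.out
  obtain ⟨z, rfl⟩ := hθ
  have hirr : Irreducible (X ^ ℓ - C (d : k)) := by
    refine X_pow_sub_C_irreducible_of_prime hp (fun b hb => hd ?_)
    have hb0 : b ≠ 0 := by
      rintro rfl
      rw [zero_pow hp.ne_zero] at hb
      exact d.ne_zero hb.symm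
    exact ⟨Units.mk0 b hb0, Units.ext hb⟩
  have : Fact (Irreducible (X ^ ℓ - C (d : k))) := ⟨hirr⟩
  let A := AdjoinRoot (X ^ ℓ - C (d : k))
  let A₁ := AdjoinRoot (X ^ ℓ - C (algebraMap k k₁ (d : k)))
  let φ : A →+* A₁ := AdjoinRoot.lift ((algebraMap k₁ A₁).comp (algebraMap k k₁)) (AdjoinRoot.root _) (by
    rw [eval₂_sub, eval₂_pow, eval₂_X, eval₂_C, sub_eq_zero]
    have := AdjoinRoot.eval₂_root (X ^ ℓ - C (algebraMap k k₁ (d : k)))
    rw [eval₂_sub, eval₂_pow, eval₂_X, eval₂_C, sub_eq_zero] at this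
    exact this)
  let : Algebra A A₁ := φ.toAlgebra
  have : IsScalarTower k A A₁ := IsScalarTower.of_algebraMap_eq (fun x => by
    change _ = φ (AdjoinRoot.of _ x)
    rw [AdjoinRoot.lift_of]
    rfl)
  have h1 : Algebra.norm k (Algebra.norm k₁ (z : A₁)) = Algebra.norm k (z : A₁) :=
    Algebra.norm_norm
  have h2 : Algebra.norm k (Algebra.norm A (z : A₁)) = Algebra.norm k (z : A₁) :=
    Algebra.norm_norm
  refine ⟨Units.map (Algebra.norm A : A₁ →* A) z, ?_⟩
  apply Units.ext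
  exact h2.trans h1.symm

end Groth.Agent.Etbc.H191.NfTrans
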