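import Groth.Agent.Etbc.H214.NormGroup
import Groth.Agent.Etbc.H191.NfTrans
import Mathlib.GroupTheory.Index
import Mathlib.FieldTheory.Finite.Basic

/-!
# Norm groups after a Kummer extension of degree `ℓ`

If all norm groups of non-`ℓ`-th powers of `k` and of `k₁` have index `ℓ`, `k₁ / k` Kummer of degree `ℓ`, then
for `a, b ∈ k` the element `a` lies in the norm group of `b` over `k₁`.
-/

set_option autoImplicit false
universe u
open NumberField IsDedekindDomain Polynomial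

namespace Groth.Agent.Etbc.H191.NfLocal

open Groth.Agent.Etbc.H226.NFDefs Groth.Agent.Etbc.H214.NormGroup

/-- An automorphism `T` of order dividing `ℓ` preserving a subgroup `H` of prime index `ℓ` acts
trivially on the quotient. -/
theorem div_mem_of_index_prime {G : Type*} [CommGroup G] (ℓ : ℕ) [Fact ℓ.Prime] (H : Subgroup G)
    (hH : H.index = ℓ) (T : G →* G) (hT : ∀ x ∈ H, T x ∈ H) (hTl : ∀ x, T^[ℓ] x = x) (x : G) :
    T x * x⁻¹ ∈ H := by
  have hp : ℓ.Prime := Fact.out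
  have hcard : Nat.card (G ⧸ H) = ℓ := hH
  by_cases hx : x ∈ H
  · exact mul_mem (hT x hx) (inv_mem hx)
  have hq : (QuotientGroup.mk x : G ⧸ H) ≠ 1 := by
    intro h
    exact hx ((QuotientGroup.eq_one_iff x).1 h)
  have hgen : ∀ y : G ⧸ H, y ∈ Subgroup.zpowers (QuotientGroup.mk x : G ⧸ H) := fun y =>
    mem_zpowers_of_prime_card hcard hq
  obtain ⟨r, hr⟩ := hgen (QuotientGroup.mk (T x))
  have hr' : (QuotientGroup.mk x : G ⧸ H) ^ r = QuotientGroup.mk (T x) := hr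
  have hTr : ∀ y : G, (QuotientGroup.mk (T y) : G ⧸ H) = (QuotientGroup.mk y) ^ r := by
    intro y
    obtain ⟨n, hn⟩ := hgen (QuotientGroup.mk y)
    have hn' : (QuotientGroup.mk x : G ⧸ H) ^ n = QuotientGroup.mk y := hn
    have h1 : (QuotientGroup.mk (T y) : G ⧸ H) = QuotientGroup.mk (T (x ^ n)) := by
      rw [← QuotientGroup.mk_zpow, QuotientGroup.eq] at hn'
      have h2 := hT _ hn'
      rw [map_mul, map_inv] at h2
      exact (QuotientGroup.eq.2 h2).symm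
    rw [h1, map_zpow, QuotientGroup.mk_zpow, ← hr', ← hn', zpow_comm]
  have hTj : ∀ (j : ℕ) (y : G), (QuotientGroup.mk (T^[j] y) : G ⧸ H) = (QuotientGroup.mk y) ^ (r ^ j) := by
    intro j
    induction j with
    | zero => intro y; simp
    | succ j ih =>
      intro y
      rw [Function.iterate_succ_apply, ih, hTr, ← zpow_mul, pow_succ']
  have h1 := hTj ℓ x
  rw [hTl] at h1
  have hord : orderOf (QuotientGroup.mk x : G ⧸ H) = ℓ := by
    have h2 : orderOf (QuotientGroup.mk x : G ⧸ H) ∣ ℓ := by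
      rw [← hcard]; exact orderOf_dvd_natCard _
    rcases (Nat.dvd_prime hp).1 h2 with h | h
    · exact absurd (orderOf_eq_one_iff.1 h) hq
    · exact h
  have h2 : (ℓ : ℤ) ∣ r ^ ℓ - 1 := by
    have h3 : ((orderOf (QuotientGroup.mk x : G ⧸ H) : ℕ) : ℤ) ∣ r ^ ℓ - 1 :=
      orderOf_dvd_iff_zpow_eq_one.2 (by rw [zpow_sub, ← h1, zpow_one, mul_inv_cancel])
    rwa [hord] at h3
  have h3 : (ℓ : ℤ) ∣ r - 1 := by
    rw [← ZMod.intCast_zmod_eq_zero_iff_dvd] at h2 ⊢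
    push_cast at h2 ⊢
    rwa [ZMod.pow_card] at h2
  have h4 : (QuotientGroup.mk x : G ⧸ H) ^ (r - 1) = 1 := by
    rw [← orderOf_dvd_iff_zpow_eq_one, hord]; exact h3
  rw [← QuotientGroup.eq_one_iff, QuotientGroup.mk_mul, QuotientGroup.mk_inv, hTr, ← h4, zpow_sub,
    zpow_one]

theorem C5_of_C4 {k k₁ : Type u} [Field k] [Field k₁] [Algebra k k₁] (ℓ : ℕ) [Fact ℓ.Prime]
    (hζ : ∃ ζ : k, IsPrimitiveRoot ζ ℓ) (hdeg : Module.finrank k k₁ = ℓ)
    (h4 : ∀ b : kˣ, (¬ ∃ c : kˣ, c ^ ℓ = b) → (normGroup ℓ (b : k)).index = ℓ)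
    (h4' : ∀ b : k₁ˣ, (¬ ∃ c : k₁ˣ, c ^ ℓ = b) → (normGroup ℓ (b : k₁)).index = ℓ)
    (a b : kˣ) (c : k₁) (hc : c ^ ℓ ∈ (algebraMap k k₁).range) (hc' : c ∉ (algebraMap k k₁).range) :
    Units.map (algebraMap k k₁ : k →* k₁) a ∈ normGroup ℓ (algebraMap k k₁ b) := by
  have hp : ℓ.Prime := Fact.out
  have hℓ : ℓ ≠ 0 := hp.ne_zero
  obtain ⟨ζ, hζ0⟩ := hζ
  have hζ : ∃ ζ : k, IsPrimitiveRoot ζ ℓ := ⟨ζ, hζ0⟩
  have hζ₁' : IsPrimitiveRoot (algebraMap k k₁ ζ) ℓ := hζ0.map_of_injective (algebraMap k k₁).injective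
  have hζ₁ : ∃ ζ : k₁, IsPrimitiveRoot ζ ℓ := ⟨_, hζ₁'⟩
  obtain ⟨γ, hγ⟩ := hc
  have hc0 : c ≠ 0 := by
    rintro rfl
    exact hc' ⟨0, map_zero _⟩
  have hγ0 : γ ≠ 0 := by
    rintro rfl
    rw [map_zero] at hγ
    exact pow_ne_zero ℓ hc0 hγ.symm
  have hγl : ∀ x : k, x ^ ℓ ≠ γ := by
    intro x hx
    have hx0 : x ≠ 0 := by
      rintro rfl
      rw [zero_pow hℓ] at hx
      exact hγ0 hx.symm
    have h1 : (c / algebraMap k k₁ x) ^ ℓ = 1 := by
      rw [div_pow, ← hγ, ← hx, map_pow, div_self]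
      exact pow_ne_zero _ ((_root_.map_ne_zero _).2 hx0)
    obtain ⟨i, -, hi⟩ := hζ₁'.eq_pow_of_pow_eq_one h1
    apply hc'
    refine ⟨ζ ^ i * x, ?_⟩
    rw [map_mul, map_pow, hi, div_mul_cancel₀]
    exact (_root_.map_ne_zero _).2 hx0
  have : Fact (Irreducible (X ^ ℓ - C γ : k[X])) := ⟨irreducible hγl⟩
  obtain ⟨e, -⟩ := exists_algEquiv hdeg γ hγl c hγ.symm
  have := isGalois hζ0 hγl
  have : IsGalois k k₁ := IsGalois.of_algEquiv e
  have : FiniteDimensional k k₁ := FiniteDimensional.of_finrank_pos (by rw [hdeg]; exact hp.pos)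
  -- a generator of the Galois group
  obtain ⟨τ, hτ⟩ : ∃ τ : Gal(k₁/k), τ ≠ 1 := by
    have h : Nat.card Gal(k₁/k) = ℓ := by rw [IsGalois.card_aut_eq_finrank, hdeg]
    have : Nontrivial Gal(k₁/k) := by
      rw [← Finite.one_lt_card_iff_nontrivial, h]; exact hp.one_lt
    exact exists_ne 1
  have hgenτ := mem_zpowers_of_prime (ℓ := ℓ) hdeg τ hτ
  have hτl : τ ^ ℓ = 1 := by
    have h : orderOf τ = ℓ := by
      rw [orderOf_eq_card_of_forall_mem_zpowers hgenτ, IsGalois.card_aut_eq_finrank, hdeg]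
    have h2 := pow_orderOf_eq_one τ
    rwa [h] at h2
  set f : kˣ →* k₁ˣ := Units.map (algebraMap k k₁ : k →* k₁) with hf
  set H : Subgroup k₁ˣ := normGroup ℓ (algebraMap k k₁ b) with hH
  by_contra hcon
  -- `b` is not an `ℓ`-th power in `k₁`
  have hb₁ : ¬ ∃ x : k₁ˣ, x ^ ℓ = f b := by
    rintro ⟨x, hx⟩
    apply hcon
    have h1 : algebraMap k k₁ (b : k) = (x : k₁) ^ ℓ := by
      have := congrArg Units.val hx
      exact this.symm
    rw [hH, h1, C3top hζ₁]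
    trivial
  have hb : ¬ ∃ x : kˣ, x ^ ℓ = b := by
    rintro ⟨x, hx⟩
    exact hb₁ ⟨f x, by rw [← map_pow, hx]⟩
  have hHidx : H.index = ℓ := h4' (f b) hb₁
  -- `τ` acts trivially modulo `H`
  let T : k₁ˣ →* k₁ˣ := Units.map (τ : k₁ →* k₁)
  have hTH : ∀ x ∈ H, T x ∈ H := by
    intro x hx
    have h1 := C3map (ℓ := ℓ) ((τ : k₁ ≃+* k₁) : k₁ →+* k₁) x (algebraMap k k₁ b) hx
    have h2 : ((τ : k₁ ≃+* k₁) : k₁ →+* k₁) (algebraMap k k₁ b) = algebraMap k k₁ b := τ.commutes _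
    rw [h2] at h1
    exact h1
  have hTl : ∀ x, T^[ℓ] x = x := by
    intro x
    have h1 : ∀ (j : ℕ) (y : k₁ˣ), ((T^[j] y : k₁ˣ) : k₁) = (τ ^ j) (y : k₁) := by
      intro j
      induction j with
      | zero => intro y; rfl
      | succ j ih =>
        intro y
        rw [Function.iterate_succ_apply, ih, pow_succ]
        rfl
    apply Units.ext
    rw [h1, hτl]
    rfl
  have hdiv : ∀ x : k₁ˣ, T x * x⁻¹ ∈ H := fun x => div_mem_of_index_prime ℓ H hHidx T hTH hTl x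
  -- the norm
  let N : k₁ˣ →* kˣ := Units.map (Algebra.norm k : k₁ →* k)
  have hNf : ∀ x : kˣ, N (f x) = x ^ ℓ := by
    intro x
    apply Units.ext
    change Algebra.norm k (algebraMap k k₁ x) = _
    rw [Algebra.norm_algebraMap, hdeg]
    rfl
  let P : Subgroup kˣ := H.map N
  have haP : a ^ ℓ ∉ P := by
    rintro ⟨h, hh, hNh⟩
    have h1 : N (f a * h⁻¹) = 1 := by rw [map_mul, map_inv, hNf, hNh, mul_inv_cancel]
    have h2 : Algebra.norm k ((f a * h⁻¹ : k₁ˣ) : k₁) = 1 := congrArg Units.val h1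
    obtain ⟨z, hz0, hz⟩ := hilbert90 τ hgenτ _ h2
    have h3 : f a * h⁻¹ * T (Units.mk0 z hz0) = Units.mk0 z hz0 := Units.ext hz
    have h4 : f a * h⁻¹ = (T (Units.mk0 z hz0) * (Units.mk0 z hz0)⁻¹)⁻¹ := by
      rw [mul_inv_rev, inv_inv, eq_mul_inv_iff_mul_eq]
      exact h3
    have h5 : f a * h⁻¹ ∈ H := by
      rw [h4]; exact inv_mem (hdiv _)
    apply hcon
    have h6 := mul_mem h5 hh
    rwa [inv_mul_cancel_right] at h6
  have hPb : P ≤ normGroup ℓ (b : k) := by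
    rintro _ ⟨h, hh, rfl⟩
    exact NfTrans.norm_mem_normGroup ℓ b hb h hh
  -- choose `a'`
  have hbidx := h4 b hb
  obtain ⟨a', ha'⟩ : ∃ a' : kˣ, a' ∉ normGroup ℓ (b : k) := by
    by_contra hall
    push Not at hall
    have : normGroup ℓ (b : k) = ⊤ := by
      rw [eq_top_iff]; intro x _; exact hall x
    rw [this, Subgroup.index_top] at hbidx
    exact hp.ne_one hbidx.symm
  have ha'l : ¬ ∃ x : kˣ, x ^ ℓ = a' := by
    rintro ⟨x, rfl⟩
    exact ha' (C3pow hℓ _ _)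
  have ha'idx := h4 a' ha'l
  have hba' : b ∉ normGroup ℓ (a' : k) := fun h => ha' ((C3symm hζ _ _).2 h)
  set g : kˣ := Units.mk0 γ hγ0 with hg
  obtain ⟨i, hi⟩ : ∃ i : ℤ, g * b ^ i ∈ normGroup ℓ (a' : k) := by
    have hcard : Nat.card (kˣ ⧸ normGroup ℓ (a' : k)) = ℓ := ha'idx
    have hq : (QuotientGroup.mk b : kˣ ⧸ normGroup ℓ (a' : k)) ≠ 1 := by
      intro h
      exact hba' ((QuotientGroup.eq_one_iff b).1 h)
    obtain ⟨i, hi⟩ : (QuotientGroup.mk g⁻¹ : kˣ ⧸ normGroup ℓ (a' : k)) ∈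
        Subgroup.zpowers (QuotientGroup.mk b : kˣ ⧸ normGroup ℓ (a' : k)) :=
      mem_zpowers_of_prime_card hcard hq
    have hi' : (QuotientGroup.mk b : kˣ ⧸ normGroup ℓ (a' : k)) ^ i = QuotientGroup.mk g⁻¹ := hi
    refine ⟨i, ?_⟩
    rw [← QuotientGroup.eq_one_iff, QuotientGroup.mk_mul, QuotientGroup.mk_zpow, hi',
      ← QuotientGroup.mk_mul, mul_inv_cancel, QuotientGroup.mk_one]
  set d : kˣ := g * b ^ i with hd
  set c₁ : k₁ˣ := Units.mk0 c hc0 with hc₁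
  have hfg : f g = c₁ ^ ℓ := Units.ext hγ
  have hdl : ¬ ∃ x : kˣ, x ^ ℓ = d := by
    rintro ⟨x, hx⟩
    by_cases hi0 : (ℓ : ℤ) ∣ i
    · obtain ⟨j, rfl⟩ := hi0
      apply hγl ((x * (b ^ j)⁻¹ : kˣ) : k)
      have h1 : (x * (b ^ j)⁻¹) ^ ℓ = g := by
        rw [mul_pow, hx, hd, inv_pow, ← zpow_natCast (b ^ j), ← zpow_mul, mul_comm j,
          mul_inv_cancel_right]
      have := congrArg Units.val h1
      exact this
    · have hcop : IsCoprime i (ℓ : ℤ) := by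
        rw [isCoprime_comm]
        exact (Nat.prime_iff_prime_int.1 hp).coprime_iff_not_dvd.2 hi0
      obtain ⟨u, v, huv⟩ := hcop
      apply hb₁
      have h1 : (f b) ^ i = (f x * c₁⁻¹) ^ ℓ := by
        have h2 := congrArg f hx
        rw [map_pow, hd, map_mul, hfg, map_zpow] at h2
        rw [mul_pow, h2, inv_pow, mul_comm (c₁ ^ ℓ), mul_inv_cancel_right]
      refine ⟨(f x * c₁⁻¹) ^ u * (f b) ^ v, ?_⟩
      rw [mul_pow, ← zpow_natCast ((f x * c₁⁻¹) ^ u), ← zpow_mul, mul_comm u, zpow_mul,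
        zpow_natCast, ← h1, ← zpow_mul, ← zpow_natCast ((f b) ^ v), ← zpow_mul, ← zpow_add,
        mul_comm i, huv, zpow_one]
  have hdidx := h4 d hdl
  have hPd : P ≤ normGroup ℓ (d : k) := by
    rintro _ ⟨h, hh, rfl⟩
    refine NfTrans.norm_mem_normGroup ℓ d hdl h ?_
    have h1 : f b ∈ normGroup ℓ (h : k₁) := (C3symm hζ₁ h (f b)).1 hh
    have h2 : f d ∈ normGroup ℓ (h : k₁) := by
      rw [hd, map_mul, hfg, map_zpow]
      exact mul_mem (C3pow hℓ _ _) (zpow_mem h1 _)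
    exact (C3symm hζ₁ h (f d)).2 h2
  have ha'd : a' ∈ normGroup ℓ (d : k) := (C3symm hζ _ _).1 hi
  -- index of the intersection
  have hrel1 : (normGroup ℓ (d : k)).relIndex (normGroup ℓ (b : k)) ∣ ℓ := by
    have h := Subgroup.relIndex_dvd_index_of_normal (normGroup ℓ (d : k)) (normGroup ℓ (b : k))
    rwa [hdidx] at h
  have hrel2 : (normGroup ℓ (d : k)).relIndex (normGroup ℓ (b : k)) ≠ 1 := by
    intro h
    rw [Subgroup.relIndex_eq_one] at h
    have h1 := Subgroup.relIndex_mul_index h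
    rw [hbidx, hdidx] at h1
    have h2 : (normGroup ℓ (b : k)).relIndex (normGroup ℓ (d : k)) = 1 :=
      Nat.eq_of_mul_eq_mul_right hp.pos (by rw [h1, one_mul])
    rw [Subgroup.relIndex_eq_one] at h2
    exact ha' (h2 ha'd)
  have hrel3 : (normGroup ℓ (d : k)).relIndex (normGroup ℓ (b : k)) = ℓ :=
    ((Nat.dvd_prime hp).1 hrel1).resolve_left hrel2
  have hIidx : (normGroup ℓ (d : k) ⊓ normGroup ℓ (b : k)).index = ℓ * ℓ := by
    rw [← Subgroup.relIndex_mul_index (inf_le_right : normGroup ℓ (d : k) ⊓ normGroup ℓ (b : k) ≤ _),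
      Subgroup.inf_relIndex_right, hrel3, hbidx]
  have hPidx : P.index ∣ ℓ * ℓ := by
    have hNr : N.range.index = ℓ := by
      have h1 : normGroup ℓ γ = N.range := normGroup_eq_range hdeg γ hγl c hγ.symm
      rw [← h1]
      exact h4 g (by
        rintro ⟨x, hx⟩
        exact hγl x (congrArg Units.val hx))
    have h1 : P.index = (H ⊔ N.ker).index * N.range.index := Subgroup.index_map H N
    rw [h1, hNr]
    have h2 : (H ⊔ N.ker).index ∣ ℓ := by
      have h3 := Subgroup.index_dvd_of_le (le_sup_left : H ≤ H ⊔ N.ker)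
      rwa [hHidx] at h3
    exact Nat.mul_dvd_mul_right h2 ℓ
  have hPI : P ≤ normGroup ℓ (d : k) ⊓ normGroup ℓ (b : k) := le_inf hPd hPb
  have h1 := Subgroup.relIndex_mul_index hPI
  rw [hIidx] at h1
  have h2 : P.relIndex (normGroup ℓ (d : k) ⊓ normGroup ℓ (b : k)) = 1 := by
    rw [← h1] at hPidx
    have h3 : P.relIndex (normGroup ℓ (d : k) ⊓ normGroup ℓ (b : k)) * (ℓ * ℓ) ∣ 1 * (ℓ * ℓ) := by
      rwa [one_mul]
    exact Nat.dvd_one.1 (Nat.dvd_of_mul_dvd_mul_right (Nat.mul_pos hp.pos hp.pos) h3)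
  rw [Subgroup.relIndex_eq_one] at h2
  exact haP (h2 ⟨C3pow hℓ _ _, C3pow hℓ _ _⟩)

end Groth.Agent.Etbc.H191.NfLocal
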